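import Cfsg.Agent.H365.PiFi.Base
import Cfsg.Agent.H209.PiSpor.Tools
import Cfsg.Agent.R08.FiTwentyThree
import Cfsg.Agent.R08.FlagMain
import Cfsg.Agent.KFacts.FiTTh.Has
import Cfsg.Agent.S1697

/-!
# S4324, the Fischer group `Fi23`: `NCs 3` and `NCs 5` (helper305, with the method of helper365)
-/

set_option autoImplicit false

namespace Cfsg.Agent.H305.PiSpor.Fi23

open Subgroup Cfsg Cfsg.Spor Cfsg.Agent.H216.Pi Cfsg.Agent.H365.PiFi
open Cfsg.Agent.Fischer.Fi23Hom (gen)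
open Cfsg.Agent.R08.FiTwentyThree (D gen_mem_D conj_mem_D sq_D)

universe u

section rank3

variable {G X : Type*} [Group G] [MulAction G X]

theorem com_trans (R : Fischer.Abstract.Rank3 G X) {x y x' y' : X} (h1 : x ≠ y) (h2 : R.Com x y) (h3 : x' ≠ y')
    (h4 : R.Com x' y') : ∃ g : G, g • x = x' ∧ g • y = y' := by
  have key : ∀ x y : X, x ≠ y → R.Com x y → ∃ g : G, g • R.x0 = x ∧ g • R.c = y := by
    intro x y hne hc
    obtain ⟨g, hg⟩ := R.trans x
    have h5 : R.Com R.x0 (g⁻¹ • y) := by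
      rw [← R.com_smul g, smul_inv_smul, hg]
      exact hc
    rcases R.com_x0_iff.1 h5 with h6 | ⟨h, h6, h7⟩
    · exact absurd (by rw [← hg, ← h6, smul_inv_smul]) hne
    · exact ⟨g * h, by rw [mul_smul, h6, hg], by rw [mul_smul, h7, smul_inv_smul]⟩
  obtain ⟨g, hg1, hg2⟩ := key x y h1 h2
  obtain ⟨g', hg1', hg2'⟩ := key x' y' h3 h4
  exact ⟨g' * g⁻¹, by rw [mul_smul, ← hg1, inv_smul_smul, hg1'], by rw [mul_smul, ← hg2, inv_smul_smul, hg2']⟩

theorem ncom_trans (R : Fischer.Abstract.Rank3 G X) {x y x' y' : X} (h2 : ¬ R.Com x y) (h4 : ¬ R.Com x' y') :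
    ∃ g : G, g • x = x' ∧ g • y = y' := by
  have key : ∀ x y : X, ¬ R.Com x y → ∃ g : G, g • R.x0 = x ∧ g • R.b = y := by
    intro x y hc
    obtain ⟨g, hg⟩ := R.trans x
    have h5 : ¬ R.Com R.x0 (g⁻¹ • y) := by
      rw [← R.com_smul g, smul_inv_smul, hg]
      exact hc
    obtain ⟨h, h6, h7⟩ := R.not_com_x0_iff.1 h5
    exact ⟨g * h, by rw [mul_smul, h6, hg], by rw [mul_smul, h7, smul_inv_smul]⟩
  obtain ⟨g, hg1, hg2⟩ := key x y h2
  obtain ⟨g', hg1', hg2'⟩ := key x' y' h4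
  exact ⟨g' * g⁻¹, by rw [mul_smul, ← hg1, inv_smul_smul, hg1'], by rw [mul_smul, ← hg2, inv_smul_smul, hg2']⟩

end rank3

theorem rank3 : H365.PiFi.Rank3 Spor.Fi23 D := by
  obtain ⟨R, -, -, hR⟩ := R08.FiTwentyThree.exists_rank3
  have conj : ∀ (g : Spor.Fi23) (x y : Spor.Fi23 ⧸ Fischer.Fi23Class.K), g • x = y → g * R.t x * g⁻¹ = R.t y := by
    rintro g x _ rfl
    exact (R.map_smul g x).symm
  refine ⟨?_, fun t ht => sq_D ht, fun α t ht => ?_, ?_, ?_⟩
  · rw [← hR]; exact R.gen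
  · obtain ⟨g, hg⟩ := KFacts.FiTTh.Has.inn α
    rw [hg]
    exact conj_mem_D ht g
  · intro a ha b hb a' ha' b' hb' hab hab' hc hc'
    rw [← hR] at ha hb ha' hb'
    obtain ⟨x, rfl⟩ := ha
    obtain ⟨y, rfl⟩ := hb
    obtain ⟨x', rfl⟩ := ha'
    obtain ⟨y', rfl⟩ := hb'
    obtain ⟨g, h1, h2⟩ := com_trans R (fun h => hab (by rw [h])) hc (fun h => hab' (by rw [h])) hc'
    exact ⟨g, conj _ _ _ h1, conj _ _ _ h2⟩
  · intro a ha b hb a' ha' b' hb' hc hc'
    rw [← hR] at ha hb ha' hb'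
    obtain ⟨x, rfl⟩ := ha
    obtain ⟨y, rfl⟩ := hb
    obtain ⟨x', rfl⟩ := ha'
    obtain ⟨y', rfl⟩ := hb'
    obtain ⟨g, h1, h2⟩ := ncom_trans R hc hc'
    exact ⟨g, conj _ _ _ h1, conj _ _ _ h2⟩

theorem path : Path4 (gen .a : Spor.Fi23) (gen .b) (gen .c) (gen .d) := by
  have hs := Fischer.Fi23Final.gen_sq
  have hc : ∀ {x y : Fi23.Gen}, coxLabel Fi23.edges x y = 2 → gen y * gen x = gen x * gen y := fun h =>
    (Fischer.Fi23Class.gen_comm _ _ h).symm
  have hb : ∀ {x y : Fi23.Gen}, coxLabel Fi23.edges x y = 3 → gen y * gen x * gen y = gen x * gen y * gen x := by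
    intro x y h
    have h1 := Fischer.Fi23Final.gen_rel x y
    rw [h] at h1
    have h2 : gen x * gen y * gen x = (gen y * gen x * gen y)⁻¹ := by
      apply eq_inv_of_mul_eq_one_left
      rw [← h1]
      simp only [pow_succ, pow_zero, one_mul, mul_assoc]
    rw [h2, mul_inv_rev, mul_inv_rev, inv_eq_of_mul_eq_one_left (hs x),
      inv_eq_of_mul_eq_one_left (hs y), mul_assoc]
  exact ⟨hs _, hs _, hs _, hs _, hc (by decide), hc (by decide), hc (by decide), hb (by decide), hb (by decide),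
    hb (by decide)⟩

theorem center_bot : center Spor.Fi23 = ⊥ := by
  have : IsSimpleGroup Spor.Fi23 := S1697.result.1
  rcases (inferInstance : (center Spor.Fi23).Normal).eq_bot_or_eq_top with h | h
  · exact h
  · exfalso
    apply R08.FlagMain.not_comm_ab
    have h1 : gen .b ∈ center Spor.Fi23 := by rw [h]; exact mem_top _
    exact mem_center_iff.1 h1 _

/-- **`Fi23`, `s = 3, 5`** -/
theorem ncs_Fi23 {K : Type u} [Group K] [Finite K] (h : Spor.IsoFi23 K) : NCs 3 K ∧ NCs 5 K := by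
  obtain ⟨e⟩ := h
  have h1 := ncs center_bot rank3 path (gen_mem_D .a) (gen_mem_D .b) (gen_mem_D .c) (gen_mem_D .d)
    R08.FlagMain.not_comm_ab
  exact ⟨H209.PiSpor.ncs_congr e.symm h1.1, H209.PiSpor.ncs_congr e.symm h1.2⟩

end Cfsg.Agent.H305.PiSpor.Fi23
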